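import Groth.Agent.Lib.LC.Seq
import Groth.Agent.Lib.LC.Torsion
import Groth.Prelude.Def_DualLC
import Mathlib.RingTheory.Ideal.AssociatedPrime.Finiteness

/-! Local cohomology with supports in a subset `T` of the spectrum, by elements. -/

universe u

open CategoryTheory Limits Opposite Abelian PrimeSpectrum

namespace GrothLib.LCSupp

variable {R : Type u} [CommRing R] {T : Set (PrimeSpectrum R)}

theorem mem_mul {J J' : Ideal R} (h : zeroLocus (J : Set R) ⊆ T) (h' : zeroLocus (J' : Set R) ⊆ T) :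
    zeroLocus ((J * J' : Ideal R) : Set R) ⊆ T := by
  rw [zeroLocus_mul]
  exact Set.union_subset h h'

theorem mem_top : zeroLocus ((⊤ : Ideal R) : Set R) ⊆ T := by
  rw [Submodule.top_coe, zeroLocus_univ]; exact Set.empty_subset _

theorem mem_pow {J : Ideal R} (h : zeroLocus (J : Set R) ⊆ T) : ∀ n : ℕ, zeroLocus ((J ^ n : Ideal R) : Set R) ⊆ T
  | 0 => by rw [pow_zero, Ideal.one_eq_top]; exact mem_top
  | n + 1 => by rw [pow_succ]; exact mem_mul (mem_pow h n) h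

theorem mem_prod {ι : Type*} (s : Finset ι) (J : ι → Ideal R) (h : ∀ i ∈ s, zeroLocus (J i : Set R) ⊆ T) :
    zeroLocus ((∏ i ∈ s, J i : Ideal R) : Set R) ⊆ T := by
  refine Finset.prod_induction J (fun J => zeroLocus (J : Set R) ⊆ T) (fun _ _ => mem_mul) ?_ h
  rw [Ideal.one_eq_top]; exact mem_top

instance : IsCofiltered (Dual2.IdealsIn T) where
  cone_objs J J' := ⟨⟨J.obj * J'.obj, mem_mul J.property J'.property⟩,
    ObjectProperty.homMk (homOfLE Ideal.mul_le_left), ObjectProperty.homMk (homOfLE Ideal.mul_le_right), trivial⟩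
  cone_maps J J' f g := ⟨J, 𝟙 J, by
    have : f = g := InducedCategory.hom_ext (Subsingleton.elim _ _)
    rw [this]⟩
  nonempty := ⟨⟨⊤, mem_top⟩⟩

/-- `R/J` as an object of `ModuleCat R`. -/
noncomputable abbrev quotI (J : Ideal R) : ModuleCat.{u} R := ModuleCat.of R (R ⧸ J)

/-- The projection `R/J ⟶ R/J'` for `J ≤ J'`. -/
noncomputable def quotMap {J J' : Ideal R} (h : J ≤ J') : quotI J ⟶ quotI J' :=
  ModuleCat.ofHom (Submodule.mapQ J J' LinearMap.id h)

theorem quotMap_comp {J J' J'' : Ideal R} (h : J ≤ J') (h' : J' ≤ J'') :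
    quotMap h ≫ quotMap h' = quotMap (h.trans h') :=
  ModuleCat.hom_ext (Submodule.linearMap_qext _ (LinearMap.ext fun _ => rfl))

theorem quotMap_refl (J : Ideal R) : quotMap (le_refl J) = 𝟙 _ :=
  ModuleCat.hom_ext (Submodule.linearMap_qext _ (LinearMap.ext fun _ => rfl))

instance : PreservesFilteredColimitsOfSize.{u, u} (forget (ModuleCat.{u} R)) :=
  inferInstanceAs (PreservesFilteredColimits (forget (ModuleCat.{u} R)))

variable (T) {i : ℕ} {M M' : ModuleCat.{u} R}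

/-- `H^i_T` as a functor. -/
noncomputable abbrev HF (i : ℕ) : ModuleCat.{u} R ⥤ ModuleCat.{u} R :=
  localCohomology.ofDiagram (Dual2.idealsInDiagram T) i

instance : PreservesColimitsOfShape (Dual2.IdealsIn T)ᵒᵖ (forget (ModuleCat.{u} R)) :=
  inferInstanceAs (PreservesColimitsOfShape (Dual2.IdealsIn T)ᵒᵖ (forget (ModuleCat.{u} R)))

instance (F : (Dual2.IdealsIn T)ᵒᵖ ⥤ ModuleCat.{u} R) : PreservesColimit F (forget (ModuleCat.{u} R)) :=
  PreservesColimitsOfShape.preservesColimit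

/-- The cocone exhibiting `H^i_T(M)` as a filtered colimit. -/
noncomputable def isColimitEval (i : ℕ) (M : ModuleCat.{u} R) :
    IsColimit (((evaluation _ _).obj M).mapCocone
      (colimit.cocone (localCohomology.diagram (Dual2.idealsInDiagram T) i))) :=
  isColimitOfPreserves _ (colimit.isColimit _)

variable {T}

/-- The canonical map `Ext^i(R/J, M) → H^i_T(M)`. -/
noncomputable def toHT (i : ℕ) (J : Ideal R) (hJ : zeroLocus (J : Set R) ⊆ T) (M : ModuleCat.{u} R) :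
    Ext (quotI J) M i →ₗ[R] (HF T i).obj M :=
  ((colimit.ι (localCohomology.diagram (Dual2.idealsInDiagram T) i)
      (op (⟨J, hJ⟩ : Dual2.IdealsIn T))).app M).hom ∘ₗ (GrothLib.LC.extEquiv (quotI J) M i).symm.toLinearMap

theorem toHT_extEquiv (J : Ideal R) (hJ : zeroLocus (J : Set R) ⊆ T) (e : GrothLib.LC.oldExt (quotI J) M i) :
    toHT i J hJ M (GrothLib.LC.extEquiv (quotI J) M i e) =
      (colimit.ι (localCohomology.diagram (Dual2.idealsInDiagram T) i)
        (op (⟨J, hJ⟩ : Dual2.IdealsIn T))).app M e := by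
  show (colimit.ι (localCohomology.diagram (Dual2.idealsInDiagram T) i) (op (⟨J, hJ⟩ : Dual2.IdealsIn T))).app M
    ((GrothLib.LC.extEquiv (quotI J) M i).symm (GrothLib.LC.extEquiv (quotI J) M i e)) = _
  rw [LinearEquiv.symm_apply_apply]

theorem exists_toHT (x : (HF T i).obj M) :
    ∃ (J : Ideal R) (hJ : zeroLocus (J : Set R) ⊆ T) (e : Ext (quotI J) M i), toHT i J hJ M e = x := by
  obtain ⟨j, y, hy⟩ := Concrete.isColimit_exists_rep _ (isColimitEval T i M) x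
  exact ⟨j.unop.obj, j.unop.property, GrothLib.LC.extEquiv (quotI j.unop.obj) M i y,
    (toHT_extEquiv _ j.unop.property y).trans hy⟩

theorem toHT_eq_toHT_iff {J J' : Ideal R} {hJ : zeroLocus (J : Set R) ⊆ T} {hJ' : zeroLocus (J' : Set R) ⊆ T}
    (e : Ext (quotI J) M i) (e' : Ext (quotI J') M i) :
    toHT i J hJ M e = toHT i J' hJ' M e' ↔ ∃ (K : Ideal R) (_ : zeroLocus (K : Set R) ⊆ T) (h : K ≤ J) (h' : K ≤ J'),
      (Ext.mk₀ (quotMap h)).comp e (zero_add i) = (Ext.mk₀ (quotMap h')).comp e' (zero_add i) := by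
  obtain ⟨a, rfl⟩ := (GrothLib.LC.extEquiv (quotI J) M i).surjective e
  obtain ⟨b, rfl⟩ := (GrothLib.LC.extEquiv (quotI J') M i).surjective e'
  rw [toHT_extEquiv, toHT_extEquiv]
  let F := localCohomology.diagram (Dual2.idealsInDiagram T) i ⋙ (evaluation _ _).obj M
  refine (Concrete.isColimit_rep_eq_iff_exists F (i := op (⟨J, hJ⟩ : Dual2.IdealsIn T))
    (j := op (⟨J', hJ'⟩ : Dual2.IdealsIn T)) (isColimitEval T i M) a b).trans ?_
  constructor
  · rintro ⟨k, f, g, h⟩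
    refine ⟨k.unop.obj, k.unop.property, leOfHom f.unop.hom, leOfHom g.unop.hom, ?_⟩
    rw [← GrothLib.LC.extEquiv_naturality_left, ← GrothLib.LC.extEquiv_naturality_left]
    exact congrArg _ h
  · rintro ⟨K, hK, hn, hm, h⟩
    refine ⟨op (⟨K, hK⟩ : Dual2.IdealsIn T), Quiver.Hom.op (ObjectProperty.homMk (homOfLE hn)),
      Quiver.Hom.op (ObjectProperty.homMk (homOfLE hm)), ?_⟩
    rw [← GrothLib.LC.extEquiv_naturality_left, ← GrothLib.LC.extEquiv_naturality_left] at h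
    exact (GrothLib.LC.extEquiv (quotI K) M i).injective h

theorem toHT_restrict {J K : Ideal R} {hJ : zeroLocus (J : Set R) ⊆ T} (hK : zeroLocus (K : Set R) ⊆ T) (h : K ≤ J)
    (e : Ext (quotI J) M i) :
    toHT i K hK M ((Ext.mk₀ (quotMap h)).comp e (zero_add i)) = toHT i J hJ M e := by
  rw [toHT_eq_toHT_iff]
  refine ⟨K, hK, le_rfl, h, ?_⟩
  rw [quotMap_refl, Ext.mk₀_id_comp]

theorem toHT_eq_zero_iff {J : Ideal R} {hJ : zeroLocus (J : Set R) ⊆ T} (e : Ext (quotI J) M i) :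
    toHT i J hJ M e = 0 ↔ ∃ (K : Ideal R) (_ : zeroLocus (K : Set R) ⊆ T) (h : K ≤ J),
      (Ext.mk₀ (quotMap h)).comp e (zero_add i) = 0 := by
  rw [← map_zero (toHT i J hJ M), toHT_eq_toHT_iff]
  constructor
  · rintro ⟨K, hK, h, _, he⟩
    exact ⟨K, hK, h, by simpa using he⟩
  · rintro ⟨K, hK, h, he⟩
    exact ⟨K, hK, h, h, by simpa using he⟩

theorem map_toHT {J : Ideal R} {hJ : zeroLocus (J : Set R) ⊆ T} (f : M ⟶ M') (e : Ext (quotI J) M i) :
    (HF T i).map f (toHT i J hJ M e) = toHT i J hJ M' (e.comp (Ext.mk₀ f) (add_zero i)) := by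
  obtain ⟨a, rfl⟩ := (GrothLib.LC.extEquiv (quotI J) M i).surjective e
  rw [toHT_extEquiv, ← GrothLib.LC.extEquiv_naturality_right, toHT_extEquiv]
  exact (ConcreteCategory.congr_hom
    ((colimit.ι (localCohomology.diagram (Dual2.idealsInDiagram T) i)
      (op (⟨J, hJ⟩ : Dual2.IdealsIn T))).naturality f) a).symm

theorem smul_ext_quotI_eq_zero {J : Ideal R} (e : Ext (quotI J) M i) {a : R} (ha : a ∈ J) : a • e = 0 := by
  have : a • 𝟙 (quotI J) = 0 := ModuleCat.hom_ext (Submodule.linearMap_qext _ (LinearMap.ext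
    fun x => (Submodule.Quotient.mk_eq_zero _).2 (Ideal.mul_mem_right x _ ha)))
  rw [GrothLib.LC.smul_eq_mk₀_comp, this, Ext.mk₀_zero, Ext.zero_comp]

theorem exists_killer (x : (HF T i).obj M) : ∃ J : Ideal R, zeroLocus (J : Set R) ⊆ T ∧ ∀ a ∈ J, a • x = 0 := by
  obtain ⟨J, hJ, e, rfl⟩ := exists_toHT x
  exact ⟨J, hJ, fun a ha => by rw [← map_smul, smul_ext_quotI_eq_zero e ha, map_zero]⟩

section seq

variable {S : ShortComplex (ModuleCat.{u} R)} (hS : S.ShortExact)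

include hS in
theorem exists_of_map_g_eq_zero {x : (HF T i).obj S.X₂} (hx : (HF T i).map S.g x = 0) :
    ∃ y, (HF T i).map S.f y = x := by
  obtain ⟨J, hJ, e, rfl⟩ := exists_toHT x
  rw [map_toHT, toHT_eq_zero_iff] at hx
  obtain ⟨K, hK, h, he⟩ := hx
  rw [← Ext.comp_assoc_of_third_deg_zero] at he
  obtain ⟨y, hy⟩ := Ext.covariant_sequence_exact₂ _ hS _ he
  exact ⟨toHT i K hK _ y, by rw [map_toHT, hy, toHT_restrict]⟩

theorem exists_δ (x : (HF T i).obj S.X₃) : ∃ (J : Ideal R) (hJ : zeroLocus (J : Set R) ⊆ T)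
    (e : Ext (quotI J) S.X₃ i), toHT i J hJ _ e = x ∧
      ∀ (a : R), a • toHT (i + 1) J hJ _ (e.comp hS.extClass rfl) = 0 → ∃ y, (HF T i).map S.g y = a • x := by
  obtain ⟨J, hJ, e, rfl⟩ := exists_toHT x
  refine ⟨J, hJ, e, rfl, fun a ha => ?_⟩
  rw [← map_smul, ← Ext.smul_comp, toHT_eq_zero_iff] at ha
  obtain ⟨K, hK, h, he⟩ := ha
  rw [← Ext.comp_assoc _ _ _ (zero_add i) rfl (by simp)] at he
  obtain ⟨y, hy⟩ := Ext.covariant_sequence_exact₃ _ hS _ rfl he
  exact ⟨toHT i K hK _ y, by rw [map_toHT, hy, toHT_restrict, map_smul]⟩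

theorem exists_of_map_f_eq_zero {x : (HF T (i + 1)).obj S.X₁} (hx : (HF T (i + 1)).map S.f x = 0) :
    ∃ (J : Ideal R) (hJ : zeroLocus (J : Set R) ⊆ T) (e : Ext (quotI J) S.X₃ i),
      toHT (i + 1) J hJ _ (e.comp hS.extClass rfl) = x := by
  obtain ⟨J, hJ, e, rfl⟩ := exists_toHT x
  rw [map_toHT, toHT_eq_zero_iff] at hx
  obtain ⟨K, hK, h, he⟩ := hx
  rw [← Ext.comp_assoc_of_third_deg_zero] at he
  obtain ⟨y, hy⟩ := Ext.covariant_sequence_exact₁ _ hS _ he rfl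
  exact ⟨K, hK, y, by rw [hy, toHT_restrict]⟩

theorem δ_wd (x : (HF T i).obj S.X₃) : ∃ z, ∀ (J : Ideal R) (hJ : zeroLocus (J : Set R) ⊆ T)
    (e : Ext (quotI J) S.X₃ i), toHT i J hJ _ e = x → toHT (i + 1) J hJ _ (e.comp hS.extClass rfl) = z := by
  obtain ⟨J, hJ, e, rfl⟩ := exists_toHT x
  refine ⟨toHT (i + 1) J hJ _ (e.comp hS.extClass rfl), fun J' hJ' e' he => ?_⟩
  obtain ⟨K, hK, h, h', hk⟩ := (toHT_eq_toHT_iff _ _).1 he
  refine (toHT_eq_toHT_iff _ _).2 ⟨K, hK, h, h', ?_⟩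
  rw [← Ext.comp_assoc _ _ _ (zero_add i) rfl (by simp), hk, Ext.comp_assoc _ _ _ (zero_add i) rfl (by simp)]

/-- The connecting map. -/
noncomputable def δ (i : ℕ) : (HF T i).obj S.X₃ →ₗ[R] (HF T (i + 1)).obj S.X₁ :=
  have wd := fun x => δ_wd (T := T) (i := i) hS x
  { toFun := fun x => (wd x).choose
    map_add' := fun x y => by
      obtain ⟨J, hJ, e, rfl⟩ := exists_toHT x
      obtain ⟨J', hJ', e', rfl⟩ := exists_toHT y
      have h := (wd (toHT i J hJ _ e + toHT i J' hJ' _ e')).choose_spec _ (mem_mul hJ hJ')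
        ((Ext.mk₀ (quotMap Ideal.mul_le_left)).comp e (zero_add i) +
          (Ext.mk₀ (quotMap Ideal.mul_le_right)).comp e' (zero_add i))
        (by rw [(toHT i _ _ _).map_add, toHT_restrict, toHT_restrict])
      rw [← h, ← (wd (toHT i J hJ _ e)).choose_spec J hJ e rfl, ← (wd (toHT i J' hJ' _ e')).choose_spec J' hJ' e' rfl,
        Ext.add_comp, map_add, Ext.comp_assoc _ _ _ (zero_add i) rfl (by simp),
        Ext.comp_assoc _ _ _ (zero_add i) rfl (by simp), toHT_restrict, toHT_restrict]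
    map_smul' := fun r x => by
      obtain ⟨J, hJ, e, rfl⟩ := exists_toHT x
      rw [RingHom.id_apply, ← (wd (r • toHT i J hJ _ e)).choose_spec J hJ (r • e) (map_smul _ r e),
        ← (wd (toHT i J hJ _ e)).choose_spec J hJ e rfl, Ext.smul_comp, map_smul] }

theorem δ_toHT {J : Ideal R} {hJ : zeroLocus (J : Set R) ⊆ T} (e : Ext (quotI J) S.X₃ i) :
    δ hS i (toHT i J hJ _ e) = toHT (i + 1) J hJ _ (e.comp hS.extClass rfl) :=
  ((δ_wd hS (toHT i J hJ _ e)).choose_spec J hJ e rfl).symm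

end seq

/-- Classes with values in a module killed by an ideal in the family die. -/
theorem eq_zero_of_killed [IsNoetherianRing R] {p : ℕ} (J₀ : Ideal R) (hJ₀ : zeroLocus (J₀ : Set R) ⊆ T)
    (hM : ∀ m : M, ∀ a ∈ J₀, a • m = 0) (x : (HF T (p + 1)).obj M) : x = 0 := by
  obtain ⟨J, hJ, e, rfl⟩ := exists_toHT x
  let I := J * J₀
  have h1 : I ^ 1 ≤ J := by rw [pow_one]; exact Ideal.mul_le_left
  haveI := GrothLib.LC.subsingleton_of_isPowerTorsion I p M fun m =>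
    ⟨1, fun a ha => hM m a (Ideal.mul_le_right (by rwa [pow_one] at ha))⟩
  obtain ⟨k, hk, he⟩ := (GrothLib.LC.toH_eq_zero_iff I ((Ext.mk₀ (quotMap h1)).comp e (zero_add (p + 1)))).1
    (Subsingleton.elim _ _)
  refine (toHT_eq_zero_iff e).2 ⟨I ^ k, mem_pow (mem_mul hJ hJ₀) k, (Ideal.pow_le_pow_right hk).trans h1, ?_⟩
  have hq : GrothLib.LC.quotMap I hk = quotMap (Ideal.pow_le_pow_right hk) :=
    ModuleCat.hom_ext (Submodule.linearMap_qext _ (LinearMap.ext fun _ => rfl))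
  rwa [hq, Ext.mk₀_comp_mk₀_assoc, quotMap_comp] at he

theorem finite_zero [IsNoetherianRing R] (M : ModuleCat.{u} R) [Module.Finite R M] :
    Module.Finite R ((HF T 0).obj M) := by
  let F : Submodule R M :=
    { carrier := {m | ∃ J : Ideal R, zeroLocus (J : Set R) ⊆ T ∧ ∀ a ∈ J, a • m = 0}
      zero_mem' := ⟨⊤, mem_top, fun a _ => smul_zero a⟩
      add_mem' := fun ⟨J, hJ, hm⟩ ⟨J', hJ', hm'⟩ => ⟨J * J', mem_mul hJ hJ', fun a ha => by
        rw [smul_add, hm a (Ideal.mul_le_left ha), hm' a (Ideal.mul_le_right ha), add_zero]⟩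
      smul_mem' := fun r m ⟨J, hJ, hm⟩ => ⟨J, hJ, fun a ha => by rw [smul_comm, hm a ha, smul_zero]⟩ }
  obtain ⟨s, hs⟩ := (IsNoetherian.noetherian F : F.FG)
  choose J hJ hm using fun m : {x // x ∈ s} => (hs.le (Submodule.subset_span m.2) : (m.1 : M) ∈ F)
  let J₀ := ∏ m ∈ s.attach, J m
  have hJ₀ : zeroLocus (J₀ : Set R) ⊆ T := mem_prod _ _ fun m _ => hJ m
  have hF : ∀ m ∈ F, ∀ a ∈ J₀, a • m = 0 := fun m hm' a ha => by
    rw [← hs] at hm'
    induction hm' using Submodule.span_induction with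
    | mem x hx => exact hm ⟨x, hx⟩ a (Ideal.le_of_dvd (Finset.dvd_prod_of_mem _ (Finset.mem_attach _ ⟨x, hx⟩)) ha)
    | zero => exact smul_zero a
    | add x y _ _ hx hy => rw [smul_add, hx, hy, add_zero]
    | smul r x _ hx => rw [smul_comm, hx, smul_zero]
  let L : (R ⧸ J₀ →ₗ[R] M) →ₗ[R] M := LinearMap.applyₗ (Submodule.Quotient.mk 1)
  haveI : Module.Finite R (R ⧸ J₀ →ₗ[R] M) :=
    Module.Finite.of_injective L fun f g h => Submodule.linearMap_qext _ (LinearMap.ext_ring h)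
  let toE : (R ⧸ J₀ →ₗ[R] M) →ₗ[R] Ext (quotI J₀) M 0 :=
    { toFun := fun f => Ext.mk₀ (ModuleCat.ofHom f)
      map_add' := fun f g => by rw [ModuleCat.ofHom_add, Ext.mk₀_add]
      map_smul' := fun r f => by rw [RingHom.id_apply, ← Ext.mk₀_smul]; rfl }
  refine Module.Finite.of_surjective ((toHT 0 J₀ hJ₀ M) ∘ₗ toE) fun x => ?_
  obtain ⟨J', hJ', e, rfl⟩ := exists_toHT x
  obtain ⟨f, rfl⟩ := (Ext.mk₀_bijective (quotI J') M).2 e
  let m : M := f.hom (Submodule.Quotient.mk 1)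
  have hmF : m ∈ F := ⟨J', hJ', fun a ha => by
    show a • f.hom (Submodule.Quotient.mk 1) = 0
    rw [← map_smul, ← Submodule.Quotient.mk_smul, smul_eq_mul, mul_one,
      (Submodule.Quotient.mk_eq_zero _).2 ha, map_zero]⟩
  let g : R ⧸ J₀ →ₗ[R] M := Submodule.liftQ J₀ (LinearMap.toSpanSingleton R M m) fun a ha => hF m hmF a ha
  refine ⟨g, ?_⟩
  show toHT 0 J₀ hJ₀ M (Ext.mk₀ (ModuleCat.ofHom g)) = _
  refine (toHT_eq_toHT_iff _ _).2 ⟨J₀ * J', mem_mul hJ₀ hJ', Ideal.mul_le_left, Ideal.mul_le_right, ?_⟩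
  rw [Ext.mk₀_comp_mk₀, Ext.mk₀_comp_mk₀]
  refine congrArg Ext.mk₀ (ModuleCat.hom_ext (Submodule.linearMap_qext _ (LinearMap.ext_ring ?_)))
  show g (Submodule.Quotient.mk 1) = f.hom (Submodule.Quotient.mk 1)
  exact one_smul R m

end GrothLib.LCSupp
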