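import Groth.Agent.Lib.LCSupp.Basic

/-! Finiteness of `H^i_T` versus annihilators. -/

universe u

open CategoryTheory Limits Abelian PrimeSpectrum

namespace GrothLib.LCSupp

variable {R : Type u} [CommRing R] [IsNoetherianRing R] {T : Set (PrimeSpectrum R)}

/-- An element of `J` regular on a module without `J`-torsion. -/
theorem exists_regular (J : Ideal R) {M : Type u} [AddCommGroup M] [Module R M] [Module.Finite R M]
    (h : ∀ m : M, (∀ a ∈ J, a • m = 0) → m = 0) : ∃ x ∈ J, Function.Injective fun m : M => x • m := by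
  classical
  by_contra hne
  push Not at hne
  have hsub : (J : Set R) ⊆ ⋃ p ∈ (associatedPrimes.finite R M).toFinset, (p : Set R) := fun x hx => by
    obtain ⟨a, b, hab, hne'⟩ := Function.not_injective_iff.1 (hne x hx)
    have hmem : x ∈ ⋃ p ∈ associatedPrimes R M, (p : Set R) := by
      rw [biUnion_associatedPrimes_eq_zero_divisors]
      exact ⟨a - b, sub_ne_zero.2 hne', by rw [smul_sub, sub_eq_zero]; exact hab⟩
    simpa using hmem
  obtain ⟨p, hp, hJp⟩ := (Ideal.subset_union_prime ⊥ ⊥ (fun p hp _ _ =>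
    ((associatedPrimes.finite R M).mem_toFinset.1 hp).isPrime)).1 hsub
  obtain ⟨hpr, m, hm⟩ := isAssociatedPrime_iff.1 ((associatedPrimes.finite R M).mem_toFinset.1 hp)
  have hm0 : m = 0 := h m fun a ha => by
    have := hJp ha
    rw [hm] at this
    simpa [Submodule.mem_colon_singleton] using this
  subst hm0
  exact hpr.ne_top (by rw [hm]; ext a; simp [Submodule.mem_colon_singleton])

theorem finite_of_exact {A B C : Type u} [AddCommGroup A] [Module R A] [AddCommGroup B] [Module R B]
    [AddCommGroup C] [Module R C] [Module.Finite R A] [Module.Finite R C] (f : A →ₗ[R] B) (g : B →ₗ[R] C)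
    (h : ∀ x, g x = 0 → ∃ y, f y = x) : Module.Finite R B := by
  refine Module.finite_def.2 (Submodule.fg_of_fg_map_of_fg_inf_ker g (IsNoetherian.noetherian _) ?_)
  have : (⊤ : Submodule R B) ⊓ LinearMap.ker g = Submodule.map f (Submodule.comap f (LinearMap.ker g)) := by
    rw [top_inf_eq]
    refine le_antisymm (fun x hx => ?_) ?_
    · obtain ⟨y, rfl⟩ := h x hx
      exact ⟨y, hx, rfl⟩
    · rintro _ ⟨y, hy, rfl⟩
      exact hy
  rw [this]
  exact (IsNoetherian.noetherian _).map f

theorem finite_of_annihilated : ∀ (i : ℕ) (M : ModuleCat.{u} R), Module.Finite R M →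
    ∀ J : Ideal R, zeroLocus (J : Set R) ⊆ T →
      (∀ k ≤ i, ∀ a ∈ J, ∀ x : (HF T k).obj M, a • x = 0) → Module.Finite R ((HF T i).obj M) := by
  intro i
  induction i with
  | zero => intro M hM _ _ _; exact finite_zero M
  | succ i ih =>
    intro M hM J hJ hann
    -- remove the `J`-torsion
    let N : Submodule R M := DRing.torsionSub J M
    obtain ⟨k, hk⟩ : ∃ k : ℕ, ∀ a ∈ J ^ k, ∀ m ∈ N, a • m = 0 := by
      obtain ⟨s, hs⟩ := (IsNoetherian.noetherian N : N.FG)
      choose n hn using fun m : {x // x ∈ s} => (hs.le (Submodule.subset_span m.2) : (m.1 : M) ∈ N)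
      refine ⟨s.attach.sup n, fun a ha m hm => ?_⟩
      rw [← hs] at hm
      induction hm using Submodule.span_induction with
      | mem x hx => exact hn ⟨x, hx⟩ a (Ideal.pow_le_pow_right (Finset.le_sup (Finset.mem_attach _ ⟨x, hx⟩)) ha)
      | zero => exact smul_zero a
      | add x y _ _ hx hy => rw [smul_add, hx, hy, add_zero]
      | smul r x _ hx => rw [smul_comm, hx, smul_zero]
    let S := GrothLib.LC.subQuot N
    have hS : S.ShortExact := GrothLib.LC.subQuot_shortExact N
    have hN : ∀ (p : ℕ) (x : (HF T (p + 1)).obj S.X₁), x = 0 := fun p =>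
      eq_zero_of_killed (J ^ k) (mem_pow hJ k) fun m a ha => Subtype.ext (hk a ha m.1 m.2)
    have surj : ∀ (p : ℕ) (y : (HF T p).obj S.X₃), ∃ z, (HF T p).map S.g z = y := fun p y => by
      obtain ⟨J', hJ', e, -, h⟩ := exists_δ hS y
      obtain ⟨z, hz⟩ := h 1 (hN _ _)
      exact ⟨z, by rw [hz, one_smul]⟩
    have hann' : ∀ k ≤ i + 1, ∀ a ∈ J, ∀ x : (HF T k).obj S.X₃, a • x = 0 := fun p hp a ha x => by
      obtain ⟨z, rfl⟩ := surj p x
      exact (((HF T p).map S.g).hom.map_smul a z).symm.trans ((congrArg _ (hann p hp a ha z)).trans (map_zero _))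
    haveI : Module.Finite R S.X₃ := inferInstanceAs (Module.Finite R (M ⧸ N))
    obtain ⟨a, ha, hinj⟩ := exists_regular J (M := S.X₃) fun m hm => by
      obtain ⟨m, rfl⟩ := Submodule.Quotient.mk_surjective N m
      refine (Submodule.Quotient.mk_eq_zero N).2 ?_
      refine ⟨1 + k, fun b hb => ?_⟩
      rw [pow_add, pow_one] at hb
      refine Submodule.mul_induction_on hb (fun c hc d hd => ?_) (fun c d hc hd => by rw [add_smul, hc, hd, add_zero])
      rw [mul_comm, mul_smul]
      exact hk d hd _ ((Submodule.Quotient.mk_eq_zero N).1 (hm c hc))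
    let f : S.X₃ ⟶ S.X₃ := ModuleCat.ofHom (a • LinearMap.id)
    haveI : Mono f := (ModuleCat.mono_iff_injective f).2 hinj
    let S' : ShortComplex (ModuleCat.{u} R) := ShortComplex.mk f (cokernel.π f) (cokernel.condition f)
    have hS' : S'.ShortExact := { exact := ShortComplex.exact_of_g_is_cokernel _ (cokernelIsCokernel f) }
    have hf : ∀ (p : ℕ), p ≤ i + 1 → ∀ x : (HF T p).obj S.X₃, (HF T p).map f x = 0 := fun p hp x => by
      obtain ⟨J', hJ', e, rfl⟩ := exists_toHT x
      rw [map_toHT, show f = a • 𝟙 S.X₃ from rfl, Ext.mk₀_smul, Ext.comp_smul, Ext.comp_mk₀_id, map_smul,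
        hann' p hp a ha]
    haveI : Module.Finite R S'.X₃ := Module.Finite.of_surjective (cokernel.π f).hom
      ((ModuleCat.epi_iff_surjective _).1 inferInstance)
    have hann3 : ∀ p ≤ i, ∀ b ∈ J * J, ∀ x : (HF T p).obj S'.X₃, b • x = 0 := fun p hp b hb x => by
      obtain ⟨J', hJ', e, rfl, h⟩ := exists_δ hS' x
      refine Submodule.mul_induction_on hb (fun c hc d hd => ?_) (fun c d hc hd => by rw [add_smul, hc, hd, add_zero])
      obtain ⟨z, hz⟩ := h d (hann' (p + 1) (by omega) d hd _)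
      rw [mul_smul, ← hz]
      exact (((HF T p).map S'.g).hom.map_smul c z).symm.trans
        ((congrArg _ (hann' p (hp.trans (Nat.le_succ i)) c hc z)).trans (map_zero _))
    haveI : Module.Finite R ((HF T i).obj S'.X₃) := ih _ inferInstance _ (mem_mul hJ hJ) hann3
    haveI : Module.Finite R ((HF T (i + 1)).obj S.X₃) := by
      refine Module.Finite.of_surjective (δ hS' i) fun x => ?_
      obtain ⟨J', hJ', e, he⟩ := exists_of_map_f_eq_zero hS' (x := x) (hf (i + 1) le_rfl x)
      exact ⟨toHT i J' hJ' _ e, (δ_toHT hS' e).trans he⟩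
    haveI : Module.Finite R ((HF T (i + 1)).obj S.X₁) :=
      Module.Finite.of_surjective (0 : PUnit.{u + 1} →ₗ[R] _) fun x => ⟨0, (hN i x).symm⟩
    exact finite_of_exact ((HF T (i + 1)).map S.f).hom ((HF T (i + 1)).map S.g).hom
      fun x hx => exists_of_map_g_eq_zero hS (x := x) hx

theorem exists_annihilator (M : ModuleCat.{u} R) (n : ℕ) (h : ∀ i ≤ n, Module.Finite R ((HF T i).obj M)) :
    ∃ J : Ideal R, zeroLocus (J : Set R) ⊆ T ∧ ∀ i ≤ n, ∀ a ∈ J, ∀ x : (HF T i).obj M, a • x = 0 := by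
  classical
  have one : ∀ i ≤ n, ∃ J : Ideal R, zeroLocus (J : Set R) ⊆ T ∧ ∀ a ∈ J, ∀ x : (HF T i).obj M, a • x = 0 := by
    intro i hi
    obtain ⟨s, hs⟩ := (h i hi).fg_top
    choose J hJ hx using fun x : {x // x ∈ s} => exists_killer (T := T) (x.1 : (HF T i).obj M)
    refine ⟨∏ x ∈ s.attach, J x, mem_prod _ _ fun x _ => hJ x, fun a ha y => ?_⟩
    have hy : y ∈ Submodule.span R (s : Set ((HF T i).obj M)) := hs ▸ Submodule.mem_top
    induction hy using Submodule.span_induction with
    | mem x hxs => exact hx ⟨x, hxs⟩ a (Ideal.le_of_dvd (Finset.dvd_prod_of_mem _ (Finset.mem_attach _ ⟨x, hxs⟩)) ha)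
    | zero => exact smul_zero a
    | add x y _ _ hx hy => rw [smul_add, hx, hy, add_zero]
    | smul r x _ hx => rw [smul_comm, hx, smul_zero]
  choose J hJ hx using fun i : Fin (n + 1) => one i.1 (Nat.lt_succ_iff.1 i.2)
  exact ⟨∏ i, J i, mem_prod _ _ fun i _ => hJ i, fun i hi a ha =>
    hx ⟨i, Nat.lt_succ_of_le hi⟩ a (Ideal.le_of_dvd (Finset.dvd_prod_of_mem _ (Finset.mem_univ _)) ha)⟩

end GrothLib.LCSupp
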